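import Groth.Agent.FormGr.GrTower
import Groth.Agent.W7Exist.Formal
import Groth.Agent.FormAlg.Tower

/-!
Multiplication between the levels of a coherent formal system and the sections of such a system.
-/

set_option autoImplicit false
set_option maxHeartbeats 1000000
set_option linter.style.haveILetI false
set_option backward.isDefEq.respectTransparency false
set_option backward.isDefEq.respectTransparency.types false
universe u

namespace Groth.Agent.FormGr

open CategoryTheory CategoryTheory.Limits AlgebraicGeometry TopologicalSpace Opposite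
open Groth.Agent.W7Exist (trG tn trG_comp trG_self epi_trG smulMod_comp)
open Groth.Agent.CohFinite (hhMap hhMap_comp hhMap_id hhδ)
open Groth.Agent.FormAlg (hhMap_smulMod hhMap_zero)

noncomputable section

variable {A : Type u} [CommRing A] {X : Scheme.{u}} [X.Over (Spec (CommRingCat.of A))] {J : Ideal A}
  {G : ℕᵒᵖ ⥤ X.Modules} (hG : Formal.IsCohFormal J G)

theorem hhMap_add' {M N : X.Modules} (φ ψ : M ⟶ N) (q : ℕ) (x : Coh.HH X M q) :
    hhMap A (φ + ψ) q x = hhMap A φ q x + hhMap A ψ q x := by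
  show Sheaf.H.map (CohFinite.toAbMap (φ + ψ)) q x = _
  rw [CohFinite.toAbMap, Functor.map_add, Sheaf.H.map_add_apply]
  rfl

include hG in
theorem exists_desc_trG' {n N : ℕ} (h : n ≤ N) {P : X.Modules} (f : G.obj (op N) ⟶ P)
    (hf : ∀ b ∈ J ^ (n + 1), Formal.smulMod A (G.obj (op N)) b ≫ f = 0) : ∃ g, trG G h ≫ g = f := by
  induction N, h using Nat.le_induction with
  | base => exact ⟨f, by rw [trG_self, Category.id_comp]⟩
  | succ N h ih =>
    obtain ⟨f', hf'⟩ := W7Exist.exists_desc hG N f fun b hb => hf b (Ideal.pow_le_pow_right (by omega) hb)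
    obtain ⟨g, hg⟩ := ih f' fun b hb => by
      haveI := W7Exist.epi_tn hG N
      rw [← cancel_epi (tn G N), comp_zero, ← Category.assoc, ← W7Cech.smulMod_natural, Category.assoc, hf']
      exact hf b hb
    exact ⟨g, by rw [← trG_comp G (Nat.le_succ N) h, Category.assoc, hg]; exact hf'⟩

include hG in
theorem exists_mulG {n N : ℕ} (h : n ≤ N) (a : A) (ha : a ∈ J ^ (N - n)) :
    ∃ g : G.obj (op n) ⟶ G.obj (op N), trG G h ≫ g = Formal.smulMod A (G.obj (op N)) a :=
  exists_desc_trG' hG h _ fun b hb => by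
    rw [smulMod_comp]
    refine hG.2.1 N _ (Ideal.pow_le_pow_right (show N + 1 ≤ N - n + (n + 1) by omega) ?_)
    rw [pow_add]
    exact Ideal.mul_mem_mul ha hb

/-- Multiplication by `a ∈ J^(N-n)` from level `n` to level `N`. -/
def mulG {n N : ℕ} (h : n ≤ N) (a : A) (ha : a ∈ J ^ (N - n)) : G.obj (op n) ⟶ G.obj (op N) :=
  (exists_mulG hG h a ha).choose

@[reassoc]
theorem tr_mulG {n N : ℕ} (h : n ≤ N) (a : A) (ha : a ∈ J ^ (N - n)) :
    trG G h ≫ mulG hG h a ha = Formal.smulMod A (G.obj (op N)) a :=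
  (exists_mulG hG h a ha).choose_spec

theorem mulG_tr {n N i m : ℕ} (h : n ≤ N) (hi : i ≤ N) (hm : m ≤ i) (hmn : m ≤ n) (a : A) (ha : a ∈ J ^ (N - n))
    (ha' : a ∈ J ^ (i - m)) : mulG hG h a ha ≫ trG G hi = trG G hmn ≫ mulG hG hm a ha' := by
  haveI := epi_trG hG h
  rw [← cancel_epi (trG G h), tr_mulG_assoc, W7Cech.smulMod_natural, ← Category.assoc (trG G h), trG_comp,
    ← trG_comp G hi hm, Category.assoc, tr_mulG]

theorem mulG_tr_zero {n N i : ℕ} (h : n ≤ N) (hi : i ≤ N) (hlt : i < N - n) (a : A) (ha : a ∈ J ^ (N - n)) :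
    mulG hG h a ha ≫ trG G hi = 0 := by
  haveI := epi_trG hG h
  rw [← cancel_epi (trG G h), tr_mulG_assoc, W7Cech.smulMod_natural,
    hG.2.1 i a (Ideal.pow_le_pow_right (by omega) ha), comp_zero, comp_zero]

theorem mulG_comp {n m N : ℕ} (h : n ≤ m) (h' : m ≤ N) (a b : A) (ha : a ∈ J ^ (m - n)) (hb : b ∈ J ^ (N - m))
    (hab : b * a ∈ J ^ (N - n)) : mulG hG h a ha ≫ mulG hG h' b hb = mulG hG (h.trans h') (b * a) hab := by
  haveI := epi_trG hG (h.trans h')
  rw [← cancel_epi (trG G (h.trans h')), tr_mulG, ← trG_comp G h' h, Category.assoc, tr_mulG_assoc]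
  rw [← Category.assoc, ← W7Cech.smulMod_natural, Category.assoc, tr_mulG, smulMod_comp, mul_comm]

theorem mulG_add {n N : ℕ} (h : n ≤ N) (a b : A) (ha : a ∈ J ^ (N - n)) (hb : b ∈ J ^ (N - n))
    (hab : a + b ∈ J ^ (N - n)) : mulG hG h (a + b) hab = mulG hG h a ha + mulG hG h b hb := by
  haveI := epi_trG hG h
  rw [← cancel_epi (trG G h), Preadditive.comp_add, tr_mulG, tr_mulG, tr_mulG, W7Exist.smulMod_add]

theorem mulG_smul {n N : ℕ} (h : n ≤ N) (r a : A) (ha : a ∈ J ^ (N - n)) (hra : r * a ∈ J ^ (N - n)) :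
    mulG hG h (r * a) hra = mulG hG h a ha ≫ Formal.smulMod A (G.obj (op N)) r := by
  haveI := epi_trG hG h
  rw [← cancel_epi (trG G h), tr_mulG, tr_mulG_assoc, smulMod_comp, mul_comm]

/-- The kernel of one transition map. -/
abbrev Kt (G : ℕᵒᵖ ⥤ X.Modules) (t : ℕ) : X.Modules := kernel (tn G t)

theorem tn_eq (t : ℕ) : tn G t = trG G (Nat.le_succ t) := rfl

/-- Multiplication on the kernels. -/
def mulK {t T : ℕ} (h : t ≤ T) (a : A) (ha : a ∈ J ^ (T - t)) : Kt G t ⟶ Kt G T :=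
  kernel.lift _ (kernel.ι _ ≫ mulG hG (Nat.succ_le_succ h) a (by rwa [Nat.succ_sub_succ])) (by
    refine (Category.assoc _ _ _).trans ?_
    refine (congrArg (kernel.ι (tn G t) ≫ ·)
      (mulG_tr hG (Nat.succ_le_succ h) (Nat.le_succ T) h (Nat.le_succ t) a (by rwa [Nat.succ_sub_succ]) ha)).trans ?_
    exact (kernel.condition_assoc (tn G t) _).trans zero_comp)

@[reassoc]
theorem mulK_ι {t T : ℕ} (h : t ≤ T) (a : A) (ha : a ∈ J ^ (T - t)) :
    mulK hG h a ha ≫ kernel.ι _ = kernel.ι _ ≫ mulG hG (Nat.succ_le_succ h) a (by rwa [Nat.succ_sub_succ]) :=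
  kernel.lift_ι _ _ _

/-- Multiplication from the bottom into a kernel. -/
def kap (t : ℕ) (b : ↥(J ^ (t + 1))) : G.obj (op 0) ⟶ Kt G t :=
  kernel.lift _ (mulG hG (Nat.zero_le (t + 1)) (b : A) b.2)
    (mulG_tr_zero hG (Nat.zero_le (t + 1)) (Nat.le_succ t) (Nat.lt_succ_self t) _ b.2)

@[reassoc]
theorem kap_ι (t : ℕ) (b : ↥(J ^ (t + 1))) :
    kap hG t b ≫ kernel.ι _ = mulG hG (Nat.zero_le (t + 1)) (b : A) b.2 :=
  kernel.lift_ι _ _ _

theorem kap_mulK {t T : ℕ} (h : t ≤ T) (a : A) (ha : a ∈ J ^ (T - t)) (b : ↥(J ^ (t + 1)))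
    (hab : a * (b : A) ∈ J ^ (T + 1)) : kap hG t b ≫ mulK hG h a ha = kap hG T ⟨a * (b : A), hab⟩ := by
  rw [← cancel_mono (kernel.ι (tn G T)), Category.assoc, mulK_ι, kap_ι_assoc, kap_ι]
  exact mulG_comp hG _ _ _ _ _ _ hab

theorem kap_add (t : ℕ) (b c : ↥(J ^ (t + 1))) : kap hG t (b + c) = kap hG t b + kap hG t c := by
  rw [← cancel_mono (kernel.ι (tn G t)), Preadditive.add_comp, kap_ι, kap_ι, kap_ι]
  exact mulG_add hG _ _ _ b.2 c.2 _

theorem kap_smul (t : ℕ) (r : A) (b : ↥(J ^ (t + 1))) :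
    kap hG t (r • b) = kap hG t b ≫ Formal.smulMod A (Kt G t) r := by
  rw [← cancel_mono (kernel.ι (tn G t)), Category.assoc, W7Cech.smulMod_natural, kap_ι_assoc, kap_ι]
  exact mulG_smul hG _ r _ b.2 _

/-- The bottom generates the kernels in cohomology. -/
def Generates (q : ℕ) : Prop :=
  ∀ t, Submodule.span A {z : Coh.HH X (Kt G t) q | ∃ (b : ↥(J ^ (t + 1))) (e : Coh.HH X (G.obj (op 0)) q),
    hhMap A (kap hG t b) q e = z} = ⊤

/-- The graded values in degree `q`. -/
def grGen (q : ℕ) (hfin : Module.Finite A (Coh.HH X (G.obj (op 0)) q)) (hgen : Generates hG q) : GrGen J where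
  O t := ModuleCat.of A (Coh.HH X (Kt G t) q)
  E := ModuleCat.of A (Coh.HH X (G.obj (op 0)) q)
  finE := hfin
  ν h a ha := hhMap A (mulK hG h a ha) q
  κ t :=
    { toFun := fun b => hhMap A (kap hG t b) q
      map_add' := fun b c => LinearMap.ext fun e => by rw [kap_add, LinearMap.add_apply]; exact hhMap_add' _ _ q e
      map_smul' := fun r b => LinearMap.ext fun e => by
        rw [kap_smul, RingHom.id_apply, LinearMap.smul_apply, hhMap_comp, hhMap_smulMod] }
  κ_ν h a ha b hab e := (hhMap_comp A _ _ q e).symm.trans (congrArg (fun φ => hhMap A φ q e) (kap_mulK hG h a ha b hab))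
  κ_gen := hgen

/-- One step of the system. -/
def stepSES (t : ℕ) : ShortComplex X.Modules := ShortComplex.mk (kernel.ι (tn G t)) (tn G t) (kernel.condition _)

include hG in
theorem stepSES_shortExact (t : ℕ) : (stepSES (G := G) t).ShortExact := by
  haveI := W7Exist.epi_tn hG t
  exact
    { exact := ShortComplex.exact_of_f_is_kernel _ (kernelIsKernel (tn G t))
      mono_f := inferInstanceAs (Mono (kernel.ι (tn G t)))
      epi_g := inferInstanceAs (Epi (tn G t)) }

/-- The map of steps given by multiplication. -/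
def stepMul {t T : ℕ} (h : t ≤ T) (a : A) (ha : a ∈ J ^ (T - t)) : stepSES (G := G) t ⟶ stepSES (G := G) T :=
  ShortComplex.homMk (mulK hG h a ha) (mulG hG (Nat.succ_le_succ h) a (by rwa [Nat.succ_sub_succ]))
    (mulG hG h a ha) (mulK_ι hG h a ha)
    (mulG_tr hG (Nat.succ_le_succ h) (Nat.le_succ T) h (Nat.le_succ t) a _ ha)

variable (h0 : Module.Finite A (Coh.HH X (G.obj (op 0)) 0)) (h1 : Module.Finite A (Coh.HH X (G.obj (op 0)) 1))
  (g0 : Generates hG 0) (g1 : Generates hG 1)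

/-- The sections of the system. -/
def grSec : GrSec J where
  P n := ModuleCat.of A (Coh.HH X (G.obj (op n)) 0)
  p h := hhMap A (trG G h) 0
  p_self a x := by rw [trG_self]; exact hhMap_id A _ 0 x
  p_comp h h' x := (hhMap_comp A _ _ 0 x).symm.trans (congrArg (fun φ => hhMap A φ 0 x) (trG_comp G h' h))
  killed n a ha x := by
    refine (hhMap_smulMod (G.obj (op n)) a 0 x).symm.trans ?_
    rw [hG.2.1 n a ha]
    exact hhMap_zero 0 _
  ν h a ha := hhMap A (mulG hG h a ha) 0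
  ν_p h a ha x := ((hhMap_comp A _ _ 0 x).symm.trans (congrArg (fun φ => hhMap A φ 0 x) (tr_mulG hG h a ha))).trans
    (hhMap_smulMod _ a 0 x)
  p_ν h hi hm hmn a ha ha' x := ((hhMap_comp A _ _ 0 x).symm.trans
    (congrArg (fun φ => hhMap A φ 0 x) (mulG_tr hG h hi hm hmn a ha ha'))).trans (hhMap_comp A _ _ 0 x)
  p_ν_zero h hi hlt a ha x := ((hhMap_comp A _ _ 0 x).symm.trans
    (congrArg (fun φ => hhMap A φ 0 x) (mulG_tr_zero hG h hi hlt a ha))).trans (hhMap_zero 0 x)
  Z := grGen hG 1 h1 g1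
  δ t := hhδ A (stepSES_shortExact hG t) 0
  δ_lift t x hx := (CohFinite.δH_eq_zero_iff (CohFinite.shortExact_toAb (stepSES_shortExact hG t)) 0 x).1 hx
  δ_ν h a ha x := (FormAlg.hhδ_natural (stepSES_shortExact hG _) (stepSES_shortExact hG _) (stepMul hG h a ha) 0 x).symm
  W := grGen hG 0 h0 g0
  ι t := hhMap A (kernel.ι (tn G t)) 0
  exists_ι t x hx := FormAlg.exists_of_g_eq_zero (stepSES_shortExact hG t) 0 x hx
  ι_smul {t T} h a ha x z hz := by
    have ha' : a ∈ J ^ ((T + 1) - (t + 1)) := by rwa [Nat.add_sub_add_right]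
    refine (((hhMap_comp A _ _ 0 x).symm.trans (congrArg (fun φ => hhMap A φ 0 x)
      (tr_mulG hG (Nat.succ_le_succ h) a ha'))).trans (hhMap_smulMod _ a 0 x)).symm.trans ?_
    refine (congrArg (hhMap A (mulG hG (Nat.succ_le_succ h) a ha') 0) hz).trans ?_
    exact (hhMap_comp A _ _ 0 z).symm.trans ((congrArg (fun φ => hhMap A φ 0 z) (mulK_ι hG h a ha).symm).trans
      (hhMap_comp A _ _ 0 z))

end

end Groth.Agent.FormGr
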