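import Groth.Agent.FormAlg.Thicken
import Groth.Agent.FormAlg.FinLim
import Groth.Prelude.Def_Formal2

/-!
`0 → F/fF → F/f^(n+1)F → F/f^nF → 0` when `f` is a non-zero-divisor on `F`.
-/

set_option autoImplicit false
set_option maxHeartbeats 1000000
set_option linter.style.haveILetI false
set_option backward.isDefEq.respectTransparency false
set_option backward.isDefEq.respectTransparency.types false
universe u

namespace Groth.Agent.FormGr

open CategoryTheory CategoryTheory.Limits AlgebraicGeometry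

variable {A : Type u} [CommRing A] {X : Scheme.{u}} [X.Over (Spec (CommRingCat.of A))] (f : A) (F : X.Modules)


theorem exists_desc_span (m : ℕ) {P : X.Modules} (φ : F ⟶ P) (h : Formal.smulMod A F (f ^ m) ≫ φ = 0) :
    ∃ d, Formal.modPowπ (Ideal.span ({f} : Set A)) m F ≫ d = φ :=
  W7Exist.exists_desc_modPow (Ideal.span ({f} : Set A)) m φ fun a ha => by
    rw [Ideal.span_singleton_pow, Ideal.mem_span_singleton'] at ha
    obtain ⟨c, rfl⟩ := ha
    rw [mul_comm c, ← W7Exist.smulMod_comp, Category.assoc, h, comp_zero]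

theorem smul_π_zero (m : ℕ) : Formal.smulMod A F (f ^ m) ≫ Formal.modPowπ (Ideal.span ({f} : Set A)) m F = 0 :=
  W7Exist.smulMod_π _ m F _ (Ideal.pow_mem_pow (Ideal.mem_span_singleton_self f) m)

theorem mono_smulMod_pow (hF : Mono (Formal.smulMod A F f)) : ∀ m, Mono (Formal.smulMod A F (f ^ m))
  | 0 => by rw [pow_zero, FormAlg.smulMod_one]; infer_instance
  | m + 1 => by
    haveI := mono_smulMod_pow hF m
    rw [pow_succ, ← W7Exist.smulMod_comp]
    exact mono_comp _ _

theorem exact_smul_π (m : ℕ) :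
    (ShortComplex.mk (Formal.smulMod A F (f ^ m)) (Formal.modPowπ (Ideal.span ({f} : Set A)) m F) (smul_π_zero f F m)).Exact := by
  haveI : Epi (Formal.modPowπ (Ideal.span ({f} : Set A)) m F) := inferInstanceAs (Epi (cokernel.π _))
  exact ShortComplex.exact_of_g_is_cokernel _ (CokernelCofork.IsColimit.ofπ _ _
    (fun q hq => (exists_desc_span f F m q hq).choose) (fun q hq => (exists_desc_span f F m q hq).choose_spec)
    (fun q hq d hd => (cancel_epi (Formal.modPowπ (Ideal.span ({f} : Set A)) m F)).1 (hd.trans (exists_desc_span f F m q hq).choose_spec.symm)))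

theorem exists_shortExact_modPow (hF : Mono (Formal.smulMod A F f)) (n : ℕ) (hn : 1 ≤ n) :
    ∃ i : Formal.modPow (Ideal.span ({f} : Set A)) 1 F ⟶ Formal.modPow (Ideal.span ({f} : Set A)) (n + 1) F, Mono i ∧
      Formal2.modPowLE (Ideal.span ({f} : Set A)) (Nat.le_add_left 1 n) F ≫ i = Formal.smulMod A (Formal.modPow (Ideal.span ({f} : Set A)) (n + 1) F) (f ^ n) ∧
      ∃ w : i ≫ Formal.modPowTrans (Ideal.span ({f} : Set A)) n F = 0, (ShortComplex.mk i (Formal.modPowTrans (Ideal.span ({f} : Set A)) n F) w).ShortExact := by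
  haveI hπ : ∀ m, Epi (Formal.modPowπ (Ideal.span ({f} : Set A)) m F) := fun m => inferInstanceAs (Epi (cokernel.π _))
  obtain ⟨i, hi⟩ := exists_desc_span f F 1 (Formal.smulMod A F (f ^ n) ≫ Formal.modPowπ (Ideal.span ({f} : Set A)) (n + 1) F) (by
    rw [pow_one, ← Category.assoc, W7Exist.smulMod_comp, ← pow_succ, smul_π_zero]
    )
  have hi' : Mono i := Preadditive.mono_of_cancel_zero _ fun {K} k hk => by
    obtain ⟨K₁, π, hπ₁, x, hx⟩ := surjective_up_to_refinements_of_epi (Formal.modPowπ (Ideal.span ({f} : Set A)) 1 F) k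
    obtain ⟨K₂, π', hπ', y, hy⟩ := (exact_smul_π f F (n + 1)).exact_up_to_refinements (x ≫ Formal.smulMod A F (f ^ n)) (by
      show (x ≫ _) ≫ Formal.modPowπ (Ideal.span ({f} : Set A)) (n + 1) F = 0
      rw [Category.assoc, ← hi, ← Category.assoc, ← hx, Category.assoc, hk, comp_zero])
    haveI := mono_smulMod_pow f F hF n
    have hy' : π' ≫ x = y ≫ Formal.smulMod A F f := by
      rw [← cancel_mono (Formal.smulMod A F (f ^ n)), Category.assoc, Category.assoc, W7Exist.smulMod_comp, hy]
      rw [← pow_succ]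
    haveI := hπ₁
    haveI := hπ'
    rw [← cancel_epi π, ← cancel_epi π', comp_zero, comp_zero, hx, ← Category.assoc, hy', Category.assoc]
    have h0 := smul_π_zero f F 1
    rw [pow_one] at h0
    rw [h0, comp_zero]
  haveI := hi'
  haveI : Epi (Formal.modPowTrans (Ideal.span ({f} : Set A)) n F) :=
    epi_of_epi_fac (Formal.modPowπ_trans (Ideal.span ({f} : Set A)) n F)
  have w : i ≫ Formal.modPowTrans (Ideal.span ({f} : Set A)) n F = 0 := by
    rw [← cancel_epi (Formal.modPowπ (Ideal.span ({f} : Set A)) 1 F), ← Category.assoc, hi, Category.assoc, Formal.modPowπ_trans, smul_π_zero,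
      comp_zero]
  refine ⟨i, hi', ?_, w, { exact := ?_ }⟩
  · rw [← cancel_epi (Formal.modPowπ (Ideal.span ({f} : Set A)) (n + 1) F), ← Category.assoc, Formal2.modPowπ_modPowLE, hi,
      W7Cech.smulMod_natural]
  · rw [ShortComplex.exact_iff_exact_up_to_refinements]
    intro K k hk
    obtain ⟨K₁, π, hπ₁, x, hx⟩ := surjective_up_to_refinements_of_epi (Formal.modPowπ (Ideal.span ({f} : Set A)) (n + 1) F) k
    obtain ⟨K₂, π', hπ', y, hy⟩ := (exact_smul_π f F n).exact_up_to_refinements x (by
      show x ≫ Formal.modPowπ (Ideal.span ({f} : Set A)) n F = 0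
      rw [← Formal.modPowπ_trans (Ideal.span ({f} : Set A)) n F, ← Category.assoc, ← hx, Category.assoc]
      exact (congrArg (π ≫ ·) hk).trans comp_zero)
    refine ⟨K₂, π' ≫ π, epi_comp _ _, y ≫ Formal.modPowπ (Ideal.span ({f} : Set A)) 1 F, ?_⟩
    show (π' ≫ π) ≫ k = (y ≫ _) ≫ i
    rw [Category.assoc, hx, ← Category.assoc, hy, Category.assoc, Category.assoc, hi]

end Groth.Agent.FormGr
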