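import Groth.Agent.FormAlg.Biject
import Groth.Agent.FormAlg.Colim

/-!
Colimit bijectivity in degree zero along short exact sequences.
-/

set_option autoImplicit false
set_option maxHeartbeats 1000000
set_option linter.style.haveILetI false
set_option backward.isDefEq.respectTransparency false
set_option backward.isDefEq.respectTransparency.types false
universe u

namespace Groth.Agent.FormGr

open CategoryTheory CategoryTheory.Limits AlgebraicGeometry TopologicalSpace Opposite
open Groth.Agent.LocH (Sec secOf secRes secRes_secOf secRes_secRes sec_ext exists_basicOpen_le)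
open Groth.Agent.PunctArt (mapS mapS_secOf)
open Groth.Agent.FormAlg

noncomputable section

variable {A : Type u} [CommRing A] {I : Ideal A}

theorem alg_of_colimBijective {M : Type u} [AddCommGroup M] [Module A M] {U : (Spec (CommRingCat.of A)).Opens}
    (h : Formal2.FormalCohColimBijective A I M 0 U) : Alg I M U := fun y hy => by
  obtain ⟨V, hV, x, hx⟩ := h.2 (fun n => (h0 _ U).symm (y n)) fun n => (h0 _ U).injective (by
    rw [h0_map, AddEquiv.apply_symm_apply, AddEquiv.apply_symm_apply, hy n])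
  refine ⟨V, hV, h0 M V x, fun n => ?_⟩
  have h1 := congrArg (h0 _ V) (hx n)
  rwa [h0_res, h0_map, AddEquiv.apply_symm_apply] at h1

theorem eq_openCompl (V : (Spec (CommRingCat.of A)).Opens) :
    V = EGA4.openCompl A (PrimeSpectrum.vanishingIdeal (show Set (PrimeSpectrum A) from V.1)ᶜ) := by
  refine TopologicalSpace.Opens.ext ?_
  show (show Set (PrimeSpectrum A) from V.1) = (PrimeSpectrum.zeroLocus _)ᶜ
  rw [PrimeSpectrum.zeroLocus_vanishingIdeal_eq_closure, IsClosed.closure_eq (isClosed_compl_iff.2 V.2), compl_compl]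

/-- Admissible opens are closed under finite intersections. -/
theorem admissible_inf {U : (Spec (CommRingCat.of A)).Opens} {ι : Type*} (s : Finset ι)
    (V₀ : (Spec (CommRingCat.of A)).Opens) (hV₀ : Formal2.Admissible A I U V₀)
    (W : ι → (Spec (CommRingCat.of A)).Opens) (hW : ∀ i ∈ s, Formal2.Admissible A I U (W i)) :
    Formal2.Admissible A I U (V₀ ⊓ s.inf W) := by
  refine ⟨inf_le_left.trans hV₀.1, fun p hp hpI => ⟨hV₀.2 p hp hpI, ?_⟩⟩
  classical
  induction s using Finset.induction with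
  | empty => rw [Finset.inf_empty]; trivial
  | insert i t _ ih =>
    rw [Finset.inf_insert]
    exact ⟨(hW i (Finset.mem_insert_self i t)).2 p hp hpI, ih fun j hj => hW j (Finset.mem_insert_of_mem hj)⟩

theorem exists_smul_eq_basicOpen {X : Type u} [AddCommGroup X] [Module A X] {g r : A}
    (h : PrimeSpectrum.basicOpen g ≤ PrimeSpectrum.basicOpen r) (s : Sec A X (PrimeSpectrum.basicOpen g)) :
    ∃ y : Sec A X (PrimeSpectrum.basicOpen g), r • y = s := by
  obtain ⟨k, hk⟩ := (PrimeSpectrum.basicOpen_le_basicOpen_iff g r).1 h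
  obtain ⟨c, hc⟩ := Ideal.mem_span_singleton'.1 hk
  have hb := (Module.End.isUnit_iff _).1
    (IsLocalizedModule.map_units (secOf A X (PrimeSpectrum.basicOpen g)) (⟨g ^ k, k, rfl⟩ : Submonoid.powers g))
  obtain ⟨z, hz⟩ := hb.2 s
  refine ⟨c • z, ?_⟩
  rw [smul_smul, mul_comm, hc]
  exact hz

variable [IsNoetherianRing A] {M' M M'' : Type u} [AddCommGroup M'] [Module A M'] [AddCommGroup M] [Module A M]
  [AddCommGroup M''] [Module A M''] [Module.Finite A M'] [Module.Finite A M]

theorem range_qmap_eq_ker (f : M' →ₗ[A] M) (g : M →ₗ[A] M'') (hg : Function.Surjective g)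
    (hfg : LinearMap.range f = LinearMap.ker g) (N : ℕ) : LinearMap.range (qmap I f N) = LinearMap.ker (qmap I g N) := by
  ext x
  obtain ⟨m, rfl⟩ := Submodule.mkQ_surjective _ x
  constructor
  · rintro ⟨x', hx'⟩
    obtain ⟨m', rfl⟩ := Submodule.mkQ_surjective _ x'
    rw [LinearMap.mem_ker, ← hx']
    show Submodule.Quotient.mk (g (f m')) = 0
    rw [show g (f m') = 0 from LinearMap.mem_ker.1 (hfg.le (LinearMap.mem_range_self f m')), Submodule.Quotient.mk_zero]
  · intro hx
    have h1 : g m ∈ (I ^ (N + 1) • (⊤ : Submodule A M)).map g := by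
      rw [Submodule.map_smul'', Submodule.map_top, LinearMap.range_eq_top.2 hg]
      exact (Submodule.Quotient.mk_eq_zero _).1 hx
    obtain ⟨w, hw, hwm⟩ := h1
    obtain ⟨m', hm'⟩ := hfg.ge (show m - w ∈ LinearMap.ker g by rw [LinearMap.mem_ker, map_sub, hwm, sub_self])
    refine ⟨Submodule.Quotient.mk m', (Submodule.Quotient.eq _).2 ?_⟩
    rw [hm', sub_sub_cancel_left]
    exact Submodule.neg_mem _ hw

theorem exists_of_qmap_eq_zero (f : M' →ₗ[A] M) (g : M →ₗ[A] M'') (hg : Function.Surjective g)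
    (hfg : LinearMap.range f = LinearMap.ker g) (N : ℕ) (U : (Spec (CommRingCat.of A)).Opens)
    (s : Sec A (Formal2.quotPow A I M N) U) (hs : mapS (ModuleCat.ofHom (qmap I g N)) U s = 0) :
    ∃ w, mapS (ModuleCat.ofHom (LinearMap.range (qmap I f N)).subtype) U w = s := by
  let S : ShortComplex (ModuleCat.{u} A) :=
    ShortComplex.mk (ModuleCat.ofHom (LinearMap.range (qmap I f N)).subtype) (ModuleCat.ofHom (qmap I g N))
      (ModuleCat.hom_ext (LinearMap.ext fun x => LinearMap.mem_ker.1 ((range_qmap_eq_ker f g hg hfg N).le x.2)))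
  have hS : S.ShortExact :=
    { exact := (ShortComplex.moduleCat_exact_iff _).2 fun x hx => ⟨⟨x, (range_qmap_eq_ker f g hg hfg N).ge hx⟩, rfl⟩
      mono_f := (ModuleCat.mono_iff_injective _).2 (Submodule.injective_subtype _)
      epi_g := (ModuleCat.epi_iff_surjective _).2 fun x => by
        obtain ⟨m, rfl⟩ := Submodule.mkQ_surjective _ x
        obtain ⟨m₀, rfl⟩ := hg m
        exact ⟨Submodule.Quotient.mk m₀, rfl⟩ }
  exact exists_of_mapS_g hS U hs

theorem exists_rangeLift {f : M' →ₗ[A] M} {n N : ℕ} (hN : n ≤ N)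
    (h : LinearMap.ker (qmap I f N) ≤ LinearMap.ker (qt I (M := M') hN)) :
    ∃ ρ : LinearMap.range (qmap I f N) →ₗ[A] Formal2.quotPow A I M' n,
      ∀ x, ρ ⟨qmap I f N x, LinearMap.mem_range_self _ x⟩ = qt I hN x :=
  ⟨((LinearMap.ker (qmap I f N)).liftQ _ h).comp (qmap I f N).quotKerEquivRange.symm.toLinearMap, fun x => by
    rw [LinearMap.comp_apply, LinearEquiv.coe_coe, LinearMap.quotKerEquivRange_symm_apply_image]
    exact Submodule.liftQ_apply _ _ x⟩

/-- Lift of a compatible family killed by the quotient map. -/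
theorem exists_lift_compat (f : M' →ₗ[A] M) (g : M →ₗ[A] M'') (hf : Function.Injective f) (hg : Function.Surjective g)
    (hfg : LinearMap.range f = LinearMap.ker g) {U : (Spec (CommRingCat.of A)).Opens}
    (u : ∀ n, Sec A (Formal2.quotPow A I M n) U) (hu : Compat I U u)
    (h0 : ∀ n, mapS (ModuleCat.ofHom (qmap I g n)) U (u n) = 0) :
    ∃ z : ∀ n, Sec A (Formal2.quotPow A I M' n) U,
      Compat I U z ∧ ∀ n, mapS (ModuleCat.ofHom (qmap I f n)) U (z n) = u n := by
  obtain ⟨c, hc⟩ := exists_AR (I := I) f hf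
  choose w hwN using fun N => exists_of_qmap_eq_zero f g hg hfg N U (u N) (h0 N)
  have hker : ∀ n, LinearMap.ker (qmap I f (n + c)) ≤ LinearMap.ker (qt I (M := M') (Nat.le_add_right n c)) :=
    fun n x hx => by
    obtain ⟨m, rfl⟩ := Submodule.mkQ_surjective _ x
    refine (Submodule.Quotient.mk_eq_zero _).2 (hc (n + 1) m ?_)
    rw [Nat.add_right_comm]
    exact (Submodule.Quotient.mk_eq_zero _).1 hx
  choose ρ hρ using fun n => exists_rangeLift (Nat.le_add_right n c) (hker n)
  let z : ∀ n, Sec A (Formal2.quotPow A I M' n) U := fun n => mapS (ModuleCat.ofHom (ρ n)) U (w (n + c))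
  refine ⟨z, fun n => ?_, fun n => ?_⟩
  · have hcn : n + c ≤ n + 1 + c := by omega
    let t : LinearMap.range (qmap I f (n + 1 + c)) →ₗ[A] LinearMap.range (qmap I f (n + c)) :=
      ((qt I (M := M) hcn).comp (Submodule.subtype _)).codRestrict _ fun x => by
        obtain ⟨y, hy⟩ := x.2
        exact ⟨qt I hcn y, (LinearMap.congr_fun (qmap_qt I f hcn) y).trans (congrArg (qt I (M := M) hcn) hy)⟩
    have ht : (LinearMap.range (qmap I f (n + c))).subtype.comp t =
        (qt I (M := M) hcn).comp (LinearMap.range (qmap I f (n + 1 + c))).subtype := LinearMap.ext fun _ => rfl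
    have hw' : mapS (ModuleCat.ofHom t) U (w (n + 1 + c)) = w (n + c) := by
      refine mapS_injective (LinearMap.range (qmap I f (n + c))).subtype (Submodule.injective_subtype _) U ?_
      have h1 := hu.eq hcn
      rw [← hwN (n + 1 + c), ← hwN (n + c), mapS_lin, ← ht] at h1
      rw [mapS_lin]
      exact h1
    have htv : ∀ y, t ⟨qmap I f (n + 1 + c) y, LinearMap.mem_range_self _ y⟩ =
        ⟨qmap I f (n + c) (qt I (M := M') hcn y), LinearMap.mem_range_self _ _⟩ := fun y =>
      Subtype.ext ((LinearMap.congr_fun (qmap_qt I f hcn) y).symm)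
    have he : (Formal2.quotPowTrans A I M' n).comp (ρ (n + 1)) = (ρ n).comp t := by
      refine LinearMap.ext fun x => ?_
      obtain ⟨x, y, rfl⟩ := x
      rw [LinearMap.comp_apply, LinearMap.comp_apply, hρ, htv, hρ, ← qt_succ, ← LinearMap.comp_apply, qt_comp,
        ← LinearMap.comp_apply, qt_comp]
    show mapS _ U (mapS _ U (w (n + 1 + c))) = mapS _ U (w (n + c))
    rw [mapS_lin, he, ← mapS_lin, hw']
  · have hn : (qmap I f n).comp (ρ n) =
        (qt I (M := M) (Nat.le_add_right n c)).comp (LinearMap.range (qmap I f (n + c))).subtype := by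
      refine LinearMap.ext fun x => ?_
      obtain ⟨x, y, rfl⟩ := x
      exact (congrArg (qmap I f n) (hρ n y)).trans (LinearMap.congr_fun (qmap_qt I f (Nat.le_add_right n c)) y)
    have h1 := hu.eq (Nat.le_add_right n c)
    rw [← hwN (n + c)] at h1
    refine Eq.trans ?_ h1
    rw [mapS_lin, mapS_lin, hn]

/-- `Alg` for an extension. -/
theorem alg_of_ses (f : M' →ₗ[A] M) (g : M →ₗ[A] M'') (hf : Function.Injective f) (hg : Function.Surjective g)
    (hfg : LinearMap.range f = LinearMap.ker g) {U : (Spec (CommRingCat.of A)).Opens}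
    (h' : Alg I M' U) (h'' : Alg I M'' U) : Alg I M U := by
  classical
  intro y hy
  have hy'' : Compat I U fun n => mapS (ModuleCat.ofHom (qmap I g n)) U (y n) := fun n => by
    rw [mapS_lin, ← qt_succ, ← qmap_qt, ← mapS_lin, qt_succ, hy n]
  obtain ⟨V, hV, x'', hx''⟩ := h'' _ hy''
  obtain ⟨𝔟, rfl⟩ : ∃ 𝔟, V = EGA4.openCompl A 𝔟 := ⟨_, eq_openCompl V⟩
  obtain ⟨k, hk⟩ := LocH.isPowerTorsion_coker (M := M'') 𝔟 (Submodule.Quotient.mk x'')
  obtain ⟨t, r, hr⟩ := Submodule.fg_iff_exists_fin_generating_family.1 (IsNoetherian.noetherian (𝔟 ^ k))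
  have hm'' : ∀ i, ∃ m, secOf A M'' (EGA4.openCompl A 𝔟) m = r i • x'' := fun i =>
    (Submodule.Quotient.mk_eq_zero _).1 ((Submodule.Quotient.mk_smul _ _ _).trans
      (hk (r i) (hr ▸ Submodule.subset_span ⟨i, rfl⟩)))
  choose m'' hm'' using hm''
  choose m hm using fun i => hg (m'' i)
  let u : Fin t → ∀ n, Sec A (Formal2.quotPow A I M n) U := fun i n =>
    secOf A _ U (Formal2.quotPowπ A I M n (m i)) - r i • y n
  have hu : ∀ i, Compat I U (u i) := fun i n => by
    simp only [u]
    rw [map_sub, map_smul, hy n]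
    exact congrArg (· - _) (mapS_secOf (ModuleCat.ofHom (Formal2.quotPowTrans A I M n)) U _)
  have hu0 : ∀ i n, mapS (ModuleCat.ofHom (qmap I g n)) U (u i n) = 0 := fun i n => by
    refine quot_secRes_injective hV n ?_
    rw [map_zero]
    simp only [u]
    rw [map_sub, map_smul, map_sub, map_smul, hx'' n, sub_eq_zero]
    refine (congrArg (secRes A _ hV.1) (mapS_secOf (ModuleCat.ofHom (qmap I g n)) U _)).trans ?_
    rw [secRes_secOf, ← map_smul, ← hm'' i, ← hm i]
    exact (mapS_secOf (qπ I M'' n) (EGA4.openCompl A 𝔟) (g (m i))).symm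
  choose z hz hzu using fun i => exists_lift_compat f g hf hg hfg (u i) (hu i) (hu0 i)
  choose W hW s hs using fun i => h' (z i) (hz i)
  let V₁ : (Spec (CommRingCat.of A)).Opens := EGA4.openCompl A 𝔟 ⊓ Finset.univ.inf W
  have hV₁ : Formal2.Admissible A I U V₁ := admissible_inf _ _ hV W fun i _ => hW i
  have hle : ∀ i, V₁ ≤ W i := fun i => inf_le_right.trans (Finset.inf_le (Finset.mem_univ i))
  let d : Fin t → Sec A M V₁ := fun i => secOf A M V₁ (m i) - mapS (ModuleCat.ofHom f) V₁ (secRes A M' (hle i) (s i))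
  have hd : ∀ i n, mapS (qπ I M n) V₁ (d i) = r i • secRes A _ hV₁.1 (y n) := fun i n => by
    simp only [d]
    rw [map_sub, mapS_lin, ← qmap_π, ← mapS_lin, ← secRes_mapS, ← hs i n, secRes_secRes, ← secRes_mapS, hzu i n]
    simp only [u]
    rw [map_sub, map_smul, secRes_secOf]
    refine (congrArg (· - _) (mapS_secOf (qπ I M n) V₁ (m i))).trans ?_
    exact sub_sub_cancel _ _
  have he : ∀ q : Fin t × Fin t, ∃ (V' : (Spec (CommRingCat.of A)).Opens) (h : Formal2.Admissible A I U V' ∧ V' ≤ V₁),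
      secRes A M h.2 (r q.1 • d q.2 - r q.2 • d q.1) = 0 := fun q => by
    refine exists_adm_zero hV₁ _ fun n => ?_
    rw [map_sub, map_smul, map_smul, hd, hd, smul_smul, smul_smul, mul_comm, sub_self]
  choose W' hW' hW'0 using he
  let V₂ : (Spec (CommRingCat.of A)).Opens := V₁ ⊓ Finset.univ.inf W'
  have hV₂ : Formal2.Admissible A I U V₂ := admissible_inf _ _ hV₁ W' fun q _ => (hW' q).1
  -- the basic opens inside `V₂` on which one of the `r` is invertible
  let κ := {q : A × Fin t // PrimeSpectrum.basicOpen q.1 ≤ V₂ ∧ PrimeSpectrum.basicOpen q.1 ≤ PrimeSpectrum.basicOpen (r q.2)}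
  let B : κ → (Spec (CommRingCat.of A)).Opens := fun q => PrimeSpectrum.basicOpen q.1.1
  have hcov : V₂ ≤ iSup B := fun p hp => by
    obtain ⟨i, hi⟩ : ∃ i, r i ∉ p.asIdeal := by
      by_contra h
      push Not at h
      refine (hp.1.1 : p ∈ EGA4.openCompl A 𝔟) (Ideal.IsPrime.le_of_pow_le (hr ▸ ?_ : 𝔟 ^ k ≤ p.asIdeal))
      exact Submodule.span_le.2 (Set.range_subset_iff.2 h)
    obtain ⟨g, hpg, hg'⟩ := exists_basicOpen_le (show p ∈ V₂ ⊓ PrimeSpectrum.basicOpen (r i) from ⟨hp, hi⟩)
    exact Opens.mem_iSup.2 ⟨⟨(g, i), hg'.trans inf_le_left, hg'.trans inf_le_right⟩, hpg⟩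
  have hB : ∀ q : κ, B q ≤ V₁ := fun q => q.2.1.trans inf_le_left
  choose x hx using fun q : κ => exists_smul_eq_basicOpen q.2.2 (secRes A M (hB q) (d q.1.2))
  have hc : TopCat.Presheaf.IsCompatible (LocH.secSheaf A M).1 B x := fun q q' => by
    show secRes A M (inf_le_left : B q ⊓ B q' ≤ B q) (x q) = secRes A M (inf_le_right : B q ⊓ B q' ≤ B q') (x q')
    rw [← sub_eq_zero]
    refine LocH.eq_zero_of_pow_smul_eq_zero (f := r q.1.2 * r q'.1.2) (fun p hp => ?_) (n := 1) ?_
    · show r q.1.2 * r q'.1.2 ∉ p.asIdeal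
      exact fun h => (p.isPrime.mem_or_mem h).elim (q.2.2 hp.1) (q'.2.2 hp.2)
    have ha : r q.1.2 • secRes A M (inf_le_left : B q ⊓ B q' ≤ B q) (x q) =
        secRes A M (inf_le_left.trans (hB q)) (d q.1.2) := by
      rw [← map_smul]
      exact (congrArg _ (hx q)).trans (secRes_secRes _ _ _)
    have hb : r q'.1.2 • secRes A M (inf_le_right : B q ⊓ B q' ≤ B q') (x q') =
        secRes A M (inf_le_left.trans (hB q)) (d q'.1.2) := by
      rw [← map_smul]
      exact (congrArg _ (hx q')).trans (secRes_secRes _ _ _)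
    rw [pow_one, smul_sub, mul_smul, mul_smul, smul_comm (r q.1.2) (r q'.1.2) (secRes A M inf_le_left (x q)), ha, hb,
      ← map_smul, ← map_smul, ← map_sub]
    have h2 : B q ⊓ B q' ≤ W' (q'.1.2, q.1.2) :=
      (inf_le_left.trans q.2.1).trans (inf_le_right.trans (Finset.inf_le (Finset.mem_univ _)))
    rw [← secRes_secRes (hW' (q'.1.2, q.1.2)).2 h2, hW'0, map_zero]
  obtain ⟨X, hX, -⟩ := (LocH.secSheaf A M).existsUnique_gluing' B V₂ (fun q => homOfLE q.2.1) hcov x hc
  refine ⟨V₂, hV₂, X, fun n => sec_ext fun p hp => ?_⟩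
  obtain ⟨q, hq⟩ := Opens.mem_iSup.1 (hcov hp)
  refine ⟨q.1.1, q.2.1, hq, ?_⟩
  have h3 : secRes A _ (hB q) (secRes A _ hV₁.1 (y n)) = mapS (qπ I M n) (B q) (x q) := by
    rw [← sub_eq_zero]
    refine LocH.eq_zero_of_pow_smul_eq_zero (f := r q.1.2) (fun p hp => q.2.2 hp) (n := 1) ?_
    rw [pow_one, smul_sub, ← map_smul, ← map_smul (mapS (qπ I M n) _), hx q,
      ← secRes_mapS (qπ I M n) (hB q) (d q.1.2), hd, sub_self]
  refine Eq.trans ?_ (secRes_mapS (qπ I M n) q.2.1 X).symm
  refine Eq.trans ?_ (congrArg (mapS (qπ I M n) (B q)) (hX q).symm)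
  exact (secRes_secRes _ _ _).trans ((secRes_secRes _ _ _).symm.trans h3)

end

end Groth.Agent.FormGr
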