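import Groth.Agent.AdicLim.Noetherian
import Mathlib.Algebra.Category.ModuleCat.Basic
import Mathlib.RingTheory.ReesAlgebra

/-!
Towers of modules along an ideal with finitely generated graded obstructions: the limit is finite and lifts
boundedly.
-/

set_option autoImplicit false
set_option linter.style.haveILetI false
set_option maxHeartbeats 800000
universe u

namespace Groth.Agent.FormGr

open CategoryTheory Polynomial

noncomputable section

variable {A : Type u} [CommRing A] (J : Ideal A)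

/-- Graded values generated by a finite module in degree zero. -/
structure GrGen where
  O : ℕ → ModuleCat.{u} A
  E : ModuleCat.{u} A
  finE : Module.Finite A E
  ν : ∀ {t T : ℕ}, t ≤ T → ∀ a : A, a ∈ J ^ (T - t) → (O t →ₗ[A] O T)
  κ : ∀ t : ℕ, ↥(J ^ (t + 1)) →ₗ[A] E →ₗ[A] O t
  κ_ν : ∀ {t T : ℕ} (h : t ≤ T) (a : A) (ha : a ∈ J ^ (T - t)) (b : ↥(J ^ (t + 1))) (hab : a * (b : A) ∈ J ^ (T + 1))
    (e : E), ν h a ha (κ t b e) = κ T ⟨a * (b : A), hab⟩ e
  κ_gen : ∀ t : ℕ, Submodule.span A {z : O t | ∃ b e, κ t b e = z} = ⊤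

theorem exists_fg_le_map_eq {M P : Type u} [AddCommGroup M] [Module A M] [AddCommGroup P] [Module A P]
    (f : M →ₗ[A] P) (p : Submodule A M) (h : (p.map f).FG) : ∃ q : Submodule A M, q.FG ∧ q ≤ p ∧ q.map f = p.map f := by
  classical
  obtain ⟨s, hs⟩ := h
  have hmem : ∀ y : s, ∃ x ∈ p, f x = y := fun y => by
    have hy : (y : P) ∈ p.map f := hs ▸ Submodule.subset_span y.2
    exact hy
  choose g hg hgf using hmem
  refine ⟨Submodule.span A (Set.range g), Submodule.fg_span (Set.finite_range g),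
    Submodule.span_le.2 (Set.range_subset_iff.2 hg), ?_⟩
  rw [Submodule.map_span, ← hs, ← Set.range_comp]
  refine congrArg _ (Set.ext fun y => ⟨?_, fun hy => ⟨⟨y, hy⟩, hgf _⟩⟩)
  rintro ⟨z, rfl⟩
  show f (g z) ∈ (s : Set P)
  rw [hgf]
  exact z.2

namespace GrGen

variable {J} (G : GrGen J)

theorem exists_rep {s : ℕ} {g : Fin s → G.E} (hg : Submodule.span A (Set.range g) = ⊤) (t : ℕ) (z : G.O t) :
    ∃ a : Fin s → ↥(J ^ (t + 1)), ∑ i, G.κ t (a i) (g i) = z := by
  have hz : z ∈ Submodule.span A {z : G.O t | ∃ b e, G.κ t b e = z} := by rw [G.κ_gen]; trivial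
  induction hz using Submodule.span_induction with
  | mem z hz =>
    obtain ⟨b, e, rfl⟩ := hz
    obtain ⟨c, rfl⟩ := (Submodule.mem_span_range_iff_exists_fun A).1 (show e ∈ Submodule.span A (Set.range g) by rw [hg]; trivial)
    refine ⟨fun i => c i • b, ?_⟩
    simp only [map_smul, LinearMap.smul_apply, map_sum]
  | zero => exact ⟨0, by simp⟩
  | add x y _ _ hx hy =>
    obtain ⟨a, rfl⟩ := hx; obtain ⟨b, rfl⟩ := hy
    exact ⟨a + b, by simp [Finset.sum_add_distrib]⟩
  | smul r x _ hx =>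
    obtain ⟨a, rfl⟩ := hx
    exact ⟨r • a, by simp [Finset.smul_sum]⟩

theorem finite_O [IsNoetherianRing A] (t : ℕ) : Module.Finite A (G.O t) := by
  haveI := G.finE
  obtain ⟨r, b, hb⟩ := Module.Finite.exists_fin (R := A) (M := ↥(J ^ (t + 1)))
  obtain ⟨s, g, hg⟩ := Module.Finite.exists_fin (R := A) (M := G.E)
  have hfg := Submodule.fg_span (R := A) (Set.finite_range fun q : Fin r × Fin s => G.κ t (b q.1) (g q.2))
  refine Module.Finite.of_fg_top ?_
  convert hfg
  refine (top_le_iff.1 fun z _ => ?_).symm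
  obtain ⟨a, rfl⟩ := G.exists_rep hg t z
  refine Submodule.sum_mem _ fun i _ => ?_
  obtain ⟨c, hc⟩ := (Submodule.mem_span_range_iff_exists_fun A).1
    (show a i ∈ Submodule.span A (Set.range b) by rw [hb]; trivial)
  rw [← hc, map_sum, LinearMap.sum_apply]
  refine Submodule.sum_mem _ fun j _ => ?_
  rw [map_smul, LinearMap.smul_apply]
  exact Submodule.smul_mem _ _ (Submodule.subset_span ⟨(j, i), rfl⟩)

/-- An increasing sequence of subfamilies stable under multiplication stabilises uniformly. -/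
theorem exists_stab [IsNoetherianRing A] (B : ℕ → ∀ t, Submodule A (G.O t))
    (hmono : ∀ {m m' : ℕ}, m ≤ m' → ∀ t, B m t ≤ B m' t)
    (hcl : ∀ (m : ℕ) {t T : ℕ} (h : t ≤ T) (a : A) (ha : a ∈ J ^ (T - t)), ∀ z ∈ B m t, G.ν h a ha z ∈ B m T) :
    ∃ c, ∀ m t, B m t ≤ B c t := by
  classical
  haveI := G.finE
  obtain ⟨s, g, hg⟩ := Module.Finite.exists_fin (R := A) (M := G.E)
  let R := reesAlgebra J
  let co : R → (n : ℕ) → ↥(J ^ n) := fun v n => ⟨(v : A[X]).coeff n, (mem_reesAlgebra_iff J _).1 v.2 n⟩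
  have hco_add : ∀ v w n, co (v + w) n = co v n + co w n := fun v w n => Subtype.ext (coeff_add _ _ _)
  let Q : ℕ → Submodule R (Fin s → R) := fun m =>
    { carrier := {v | (∀ i, (v i : A[X]).coeff 0 = 0) ∧ ∀ t, ∑ i, G.κ t (co (v i) (t + 1)) (g i) ∈ B m t}
      zero_mem' := ⟨fun i => by simp, fun t => by
        have h0 : co 0 (t + 1) = 0 := Subtype.ext (coeff_zero _)
        simp [h0]⟩
      add_mem' := fun {v w} hv hw => ⟨fun i => by simp [hv.1 i, hw.1 i], fun t => by
        simp only [Pi.add_apply, hco_add, map_add, LinearMap.add_apply, Finset.sum_add_distrib]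
        exact add_mem (hv.2 t) (hw.2 t)⟩
      smul_mem' := fun r v hv => by
        refine ⟨fun i => ?_, fun t => ?_⟩
        · show ((r : A[X]) * (v i : A[X])).coeff 0 = 0
          rw [mul_coeff_zero, hv.1 i, mul_zero]
        · have hmem : ∀ (i : Fin s) (q : ℕ × ℕ), q ∈ Finset.HasAntidiagonal.antidiagonal (t + 1) →
              (r : A[X]).coeff q.1 * (v i : A[X]).coeff q.2 ∈ J ^ (t + 1) := fun i q hq => by
            rw [← Finset.HasAntidiagonal.mem_antidiagonal.1 hq, pow_add]
            exact Ideal.mul_mem_mul (co r q.1).2 (co (v i) q.2).2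
          have hsum : ∀ i, co ((r • v) i) (t + 1) = ∑ q ∈ (Finset.HasAntidiagonal.antidiagonal (t + 1)).attach,
              (⟨(r : A[X]).coeff q.1.1 * (v i : A[X]).coeff q.1.2, hmem i q.1 q.2⟩ : ↥(J ^ (t + 1))) := fun i => by
            refine Subtype.ext ?_
            show ((r : A[X]) * (v i : A[X])).coeff (t + 1) = _
            rw [coeff_mul, Submodule.coe_sum]
            exact (Finset.sum_attach (Finset.HasAntidiagonal.antidiagonal (t + 1)) fun q => (r : A[X]).coeff q.1 * (v i : A[X]).coeff q.2).symm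
          simp only [hsum, map_sum, LinearMap.sum_apply]
          rw [Finset.sum_comm]
          refine Submodule.sum_mem _ fun q _ => ?_
          obtain ⟨⟨k, l⟩, hkl⟩ := q
          rcases Nat.eq_zero_or_pos l with rfl | hl
          · refine Submodule.sum_mem _ fun i _ => ?_
            rw [show (⟨(r : A[X]).coeff k * (v i : A[X]).coeff 0, hmem i _ hkl⟩ : ↥(J ^ (t + 1))) = 0 from
              Subtype.ext (by show _ * _ = (0 : A); rw [hv.1 i, mul_zero]), map_zero, LinearMap.zero_apply]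
            exact zero_mem _
          · obtain ⟨l, rfl⟩ : ∃ l', l = l' + 1 := ⟨l - 1, by omega⟩
            have hk : k + (l + 1) = t + 1 := Finset.HasAntidiagonal.mem_antidiagonal.1 hkl
            have hle : l ≤ t := by omega
            have hr : (r : A[X]).coeff k ∈ J ^ (t - l) := by rw [show t - l = k by omega]; exact (co r k).2
            have := hcl m hle _ hr _ (hv.2 l)
            rw [map_sum] at this
            exact Finset.sum_congr rfl (fun i _ => G.κ_ν hle _ hr (co (v i) (l + 1)) (hmem i (k, l + 1) hkl) (g i)) ▸ this }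
  have hQ : Monotone Q := fun m m' h v hv => ⟨hv.1, fun t => hmono h t (hv.2 t)⟩
  obtain ⟨c, hc⟩ := monotone_stabilizes_iff_noetherian.2 (inferInstance : IsNoetherian R (Fin s → R)) ⟨Q, hQ⟩
  refine ⟨c, fun m t z hz => ?_⟩
  obtain ⟨a, rfl⟩ := G.exists_rep hg t z
  let v : Fin s → R := fun i => ⟨monomial (t + 1) (a i : A), reesAlgebra.monomial_mem.2 (a i).2⟩
  have hv : v ∈ Q (max m c) := by
    refine ⟨fun i => by simp [v, coeff_monomial], fun t' => ?_⟩
    by_cases htt : t' = t
    · subst htt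
      have : ∀ i, co (v i) (t' + 1) = a i := fun i => Subtype.ext (by simp [co, v, coeff_monomial])
      simp only [this]
      exact hmono (le_max_left m c) t' hz
    · have : ∀ i, co (v i) (t' + 1) = 0 := fun i => Subtype.ext (by simp [co, v, coeff_monomial, Ne.symm htt])
      simp [this]
  have hv' : v ∈ Q c := by
    have h : Q c = Q (max m c) := hc (max m c) (le_max_right m c)
    rwa [h]
  have : ∀ i, co (v i) (t + 1) = a i := fun i => Subtype.ext (by simp [co, v, coeff_monomial])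
  simpa only [this] using hv'.2 t

end GrGen

/-- Sections of a tower along `J`, with the graded pieces and the obstructions to lifting one step. -/
structure GrSec where
  P : ℕ → ModuleCat.{u} A
  p : ∀ {a b : ℕ}, a ≤ b → (P b →ₗ[A] P a)
  p_self : ∀ (a : ℕ) (x : P a), p (le_refl a) x = x
  p_comp : ∀ {a b c : ℕ} (h : a ≤ b) (h' : b ≤ c) (x : P c), p h (p h' x) = p (h.trans h') x
  killed : ∀ (n : ℕ) (a : A), a ∈ J ^ (n + 1) → ∀ x : P n, a • x = 0
  ν : ∀ {n N : ℕ}, n ≤ N → ∀ a : A, a ∈ J ^ (N - n) → (P n →ₗ[A] P N)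
  ν_p : ∀ {n N : ℕ} (h : n ≤ N) (a : A) (ha : a ∈ J ^ (N - n)) (x : P N), ν h a ha (p h x) = a • x
  p_ν : ∀ {n N i m : ℕ} (h : n ≤ N) (hi : i ≤ N) (hm : m ≤ i) (hmn : m ≤ n) (a : A) (ha : a ∈ J ^ (N - n))
    (ha' : a ∈ J ^ (i - m)) (x : P n), p hi (ν h a ha x) = ν hm a ha' (p hmn x)
  p_ν_zero : ∀ {n N i : ℕ} (h : n ≤ N) (hi : i ≤ N), i < N - n → ∀ (a : A) (ha : a ∈ J ^ (N - n)) (x : P n),
    p hi (ν h a ha x) = 0
  Z : GrGen J
  δ : ∀ t, P t →ₗ[A] Z.O t
  δ_lift : ∀ (t : ℕ) (x : P t), δ t x = 0 → ∃ y, p (Nat.le_succ t) y = x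
  δ_ν : ∀ {t T : ℕ} (h : t ≤ T) (a : A) (ha : a ∈ J ^ (T - t)) (x : P t), δ T (ν h a ha x) = Z.ν h a ha (δ t x)
  W : GrGen J
  ι : ∀ t, W.O t →ₗ[A] P (t + 1)
  exists_ι : ∀ (t : ℕ) (x : P (t + 1)), p (Nat.le_succ t) x = 0 → ∃ z, ι t z = x
  ι_smul : ∀ {t T : ℕ} (h : t ≤ T) (a : A) (ha : a ∈ J ^ (T - t)) (x : P (T + 1)) (z : W.O t),
    p (Nat.succ_le_succ h) x = ι t z → a • x = ι T (W.ν h a ha z)

namespace GrSec

variable {J} (S : GrSec J)

/-- The compatible families. -/
def limSub : Submodule A (∀ n, S.P n) where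
  carrier := {y | ∀ n, S.p (Nat.le_succ n) (y (n + 1)) = y n}
  zero_mem' := fun _ => map_zero _
  add_mem' {a b} ha hb := fun n => by rw [Pi.add_apply, map_add, ha n, hb n, Pi.add_apply]
  smul_mem' r a ha := fun n => by rw [Pi.smul_apply, map_smul, ha n, Pi.smul_apply]

/-- The limit. -/
abbrev L : ModuleCat.{u} A := ModuleCat.of A S.limSub

/-- The projections. -/
def π (n : ℕ) : S.L →ₗ[A] S.P n := (LinearMap.proj n).comp S.limSub.subtype

theorem π_succ (n : ℕ) (y : S.L) : S.p (Nat.le_succ n) (S.π (n + 1) y) = S.π n y := y.2 n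

theorem p_π {a b : ℕ} (h : a ≤ b) (y : S.L) : S.p h (S.π b y) = S.π a y := by
  induction b, h using Nat.le_induction with
  | base => exact S.p_self a _
  | succ b hab ih => rw [← S.p_comp hab (Nat.le_succ b), S.π_succ b y, ih]

/-- The families vanishing up to level `n`. -/
def K (n : ℕ) : Submodule A S.L := LinearMap.ker (S.π n)

theorem K_antitone {m n : ℕ} (h : m ≤ n) : S.K n ≤ S.K m := fun y hy => by
  show S.π m y = 0
  rw [← S.p_π h, show S.π n y = 0 from hy, map_zero]

theorem pow_smul_le_K (n : ℕ) {k : ℕ} (hk : n + 1 ≤ k) : J ^ k • (⊤ : Submodule A S.L) ≤ S.K n :=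
  Submodule.smul_le.2 fun a ha y _ => (map_smul (S.π n) a y).trans
    (S.killed n a (Ideal.pow_le_pow_right hk ha) _)

theorem smul_mem_K {a : A} {t T : ℕ} (h : t ≤ T) (ha : a ∈ J ^ (T - t)) {y : S.L} (hy : y ∈ S.K t) :
    a • y ∈ S.K T := by
  show S.π T (a • y) = 0
  rw [map_smul, ← S.ν_p h a ha, S.p_π, show S.π t y = 0 from hy, map_zero]

variable [IsNoetherianRing A]

/-- The sections vanishing below level `j`. -/
def F (t j : ℕ) : Submodule A (S.P t) :=
  ⨅ (i : ℕ) (h : i ≤ t) (_ : i < j), LinearMap.ker (S.p h)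

theorem exists_step : ∃ c, ∀ (t : ℕ) (x : S.P t), ∃ y : S.P (t + 1), ∀ (i : ℕ) (hi : i + c ≤ t),
    S.p (show i ≤ t + 1 by omega) y = S.p (show i ≤ t by omega) x := by
  obtain ⟨c, hc⟩ := S.Z.exists_stab (fun m t => (S.F t (t + 1 - m)).map (S.δ t))
    (fun {m m'} h t => Submodule.map_mono fun x hx => by
      simp only [F, Submodule.mem_iInf] at hx ⊢
      exact fun i hi hij => hx i hi (by omega))
    (fun m {t T} h a ha z hz => by
      obtain ⟨x, hx, rfl⟩ := hz
      refine ⟨S.ν h a ha x, ?_, S.δ_ν h a ha x⟩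
      simp only [F, SetLike.mem_coe, Submodule.mem_iInf] at hx ⊢
      intro i hi hij
      show S.p hi (S.ν h a ha x) = 0
      by_cases hiT : i < T - t
      · exact S.p_ν_zero h hi hiT a ha x
      · rw [S.p_ν h hi (show i - (T - t) ≤ i by omega) (show i - (T - t) ≤ t by omega) a ha
          (by rw [show i - (i - (T - t)) = T - t by omega]; exact ha) x,
          show S.p _ x = 0 from hx (i - (T - t)) (by omega) (by omega), map_zero])
  refine ⟨c, fun t x => ?_⟩
  obtain ⟨x', hx', hδ⟩ := hc (t + 1) t ⟨x, by simp [F], rfl⟩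
  obtain ⟨y, hy⟩ := S.δ_lift t (x - x') (by rw [map_sub, hδ, sub_self])
  refine ⟨y, fun i hi => ?_⟩
  simp only [F, SetLike.mem_coe, Submodule.mem_iInf] at hx'
  rw [← S.p_comp (show i ≤ t by omega) (Nat.le_succ t), hy, map_sub,
    show S.p _ x' = 0 from hx' i (by omega) (by omega), sub_zero]

theorem exists_lift : ∃ c, ∀ (j : ℕ) (s : S.P (c + j)), ∃ y : S.L, S.π j y = S.p (Nat.le_add_left j c) s := by
  obtain ⟨c, hc⟩ := S.exists_step
  refine ⟨c, fun j s => ?_⟩
  choose g hg using hc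
  let U : ∀ i, S.P (c + (j + i)) := fun i =>
    Nat.rec (motive := fun i => S.P (c + (j + i))) s (fun i a => g (c + (j + i)) a) i
  have hU : ∀ (n i : ℕ) (h : n ≤ j + i), S.p (show n ≤ c + (j + (i + 1)) by omega) (U (i + 1)) =
      S.p (show n ≤ c + (j + i) by omega) (U i) := fun n i h => hg _ (U i) n (by omega)
  refine ⟨⟨fun n => S.p (show n ≤ c + (j + n) by omega) (U n), fun n => ?_⟩, ?_⟩
  · rw [S.p_comp]
    exact hU n n (Nat.le_add_left n j)
  · have hj : ∀ i, S.p (show j ≤ c + (j + i) by omega) (U i) = S.p (show j ≤ c + j by omega) s := by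
      intro i
      induction i with
      | zero => rfl
      | succ i ih => exact (hU j i (Nat.le_add_right j i)).trans ih
    exact hj j

theorem exists_gen : ∃ c, ∀ t : ℕ,
    S.K t ≤ (⨆ (l : ℕ) (_ : l < c) (_ : l ≤ t), J ^ (t - l) • S.K l) ⊔ S.K (t + 1) := by
  let V : ℕ → ℕ → Submodule A S.L := fun m t => ⨆ (l : ℕ) (_ : l < m) (_ : l ≤ t), J ^ (t - l) • S.K l
  obtain ⟨c, hc⟩ := S.W.exists_stab (fun m t => ((V m t).map (S.π (t + 1))).comap (S.ι t))
    (fun {m m'} h t => Submodule.comap_mono (Submodule.map_mono (iSup_mono fun l => iSup_le fun hl =>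
      le_iSup_of_le (hl.trans_le h) le_rfl)))
    (fun m {t T} h a ha z hz => by
      obtain ⟨y, hy, hyz⟩ := hz
      refine ⟨a • y, ?_, ?_⟩
      · have h1 : J ^ (T - t) • V m t ≤ V m T := by
          simp only [V, Submodule.smul_iSup]
          refine iSup_le fun l => iSup_le fun hl => iSup_le fun hlt => ?_
          refine le_iSup_of_le l (le_iSup_of_le hl (le_iSup_of_le (hlt.trans h) ?_))
          rw [← Submodule.smul_assoc, smul_eq_mul, ← pow_add, show T - t + (t - l) = T - l by omega]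
        exact h1 (Submodule.smul_mem_smul ha hy)
      · rw [map_smul]
        exact S.ι_smul h a ha _ z (by rw [S.p_π]; exact hyz))
  refine ⟨c, fun t y hy => ?_⟩
  obtain ⟨z, hz⟩ := S.exists_ι t (S.π (t + 1) y) (by rw [S.p_π]; exact hy)
  obtain ⟨y', hy', hy''⟩ := hc (t + 1) t (x := z) ⟨y,
    Submodule.mem_iSup_of_mem t (Submodule.mem_iSup_of_mem t.lt_succ_self (Submodule.mem_iSup_of_mem le_rfl
      (by rw [Nat.sub_self, pow_zero, Ideal.one_eq_top, Submodule.top_smul]; exact hy))), hz.symm⟩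
  refine Submodule.mem_sup.2 ⟨y', hy', y - y', ?_, by abel⟩
  show S.π (t + 1) (y - y') = 0
  rw [map_sub, hy'', hz, sub_self]

/-- The limit is finite and its filtration is bounded by the adic one. -/
theorem finite_L [IsAdicComplete J A] [Module.Finite A (S.P 0)] :
    Module.Finite A S.L ∧ ∃ c, ∀ t, c ≤ t → S.K t ≤ J ^ (t - c) • (⊤ : Submodule A S.L) := by
  classical
  obtain ⟨c, hc⟩ := S.exists_gen
  haveI := fun l => S.W.finite_O l
  have hlift : ∀ l, ∃ N : Submodule A S.L, N.FG ∧ N ≤ S.K l ∧ S.K l ≤ N ⊔ S.K (l + 1) := fun l => by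
    have hle : (S.K l).map (S.π (l + 1)) ≤ LinearMap.range (S.ι l) := by
      rintro _ ⟨y, hy, rfl⟩
      exact S.exists_ι l _ (by rw [S.p_π]; exact hy)
    have hfg : ((S.K l).map (S.π (l + 1))).FG := by
      haveI : IsNoetherian A (LinearMap.range (S.ι l)) := isNoetherian_of_fg_of_noetherian _
        (LinearMap.range_eq_map (S.ι l) ▸ (Module.Finite.fg_top.map _))
      have h := (IsNoetherian.noetherian (((S.K l).map (S.π (l + 1))).comap (LinearMap.range (S.ι l)).subtype)).map
        (LinearMap.range (S.ι l)).subtype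
      rwa [Submodule.map_comap_subtype, inf_eq_right.2 hle] at h
    obtain ⟨N, hN, hN', hmap⟩ := exists_fg_le_map_eq (S.π (l + 1)) (S.K l) hfg
    refine ⟨N, hN, hN', fun y hy => ?_⟩
    obtain ⟨y', hy', e⟩ := hmap.ge ⟨y, hy, rfl⟩
    exact Submodule.mem_sup.2 ⟨y', hy', y - y', by show S.π (l + 1) (y - y') = 0; rw [map_sub, e, sub_self], by abel⟩
  choose N hN hNK hKN using hlift
  obtain ⟨N₀, hN₀, -, hmap₀⟩ := exists_fg_le_map_eq (S.π 0) ⊤
    (IsNoetherian.noetherian ((⊤ : Submodule A S.L).map (S.π 0)))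
  let M : Submodule A S.L := N₀ ⊔ ⨆ l ∈ Finset.range c, N l
  have hM : M.FG := hN₀.sup (Submodule.fg_biSup _ _ fun l _ => hN l)
  have hK : ∀ e l, l + e = c → S.K l ≤ M ⊔ S.K c := fun e => by
    induction e with
    | zero => intro l hl; subst hl; exact le_sup_right
    | succ e ih =>
      intro l hl
      refine (hKN l).trans (sup_le ?_ (ih (l + 1) (by omega)))
      exact le_sup_of_le_left (le_sup_of_le_right (le_iSup₂_of_le l (Finset.mem_range.2 (by omega)) le_rfl))
  have htop : ⊤ ≤ M ⊔ S.K c := fun y _ => by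
    obtain ⟨y', hy', e⟩ := hmap₀.ge ⟨y, trivial, rfl⟩
    have h1 : y - y' ∈ M ⊔ S.K c := hK c 0 (zero_add c) (by show S.π 0 (y - y') = 0; rw [map_sub, e, sub_self])
    have h2 : y' ∈ M ⊔ S.K c := Submodule.mem_sup_left (Submodule.mem_sup_left hy')
    simpa using add_mem h1 h2
  have hstep : ∀ t, c ≤ t → S.K t ≤ J ^ (t - c) • M ⊔ S.K (t + 1) := fun t ht => by
    refine (hc t).trans (sup_le (iSup_le fun l => iSup_le fun hl => iSup_le fun hlt => ?_) le_sup_right)
    refine (Submodule.smul_mono le_rfl (hK (c - l) l (by omega))).trans ?_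
    rw [Submodule.smul_sup]
    refine sup_le (le_sup_of_le_left (Submodule.smul_mono_left (Ideal.pow_le_pow_right (by omega)))) ?_
    refine le_sup_of_le_right (Submodule.smul_le.2 fun a ha y hy => ?_)
    refine S.K_antitone (show t + 1 ≤ c + (t - l) by omega) (S.smul_mem_K (Nat.le_add_right c _) ?_ hy)
    rwa [show c + (t - l) - c = t - l by omega]
  haveI : Module.Finite A M := Module.Finite.iff_fg.2 hM
  haveI : IsAdicComplete J M := AdicLim.isAdicComplete_of_finite J M
  have hclosed : ∀ t, c ≤ t → ∀ y ∈ S.K t, y ∈ J ^ (t - c) • M := fun t ht y hy => by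
    have hseq : ∀ k, ∀ z ∈ S.K (t + k), ∃ w ∈ J ^ (t - c + k) • M, z - w ∈ S.K (t + (k + 1)) := fun k z hz => by
      obtain ⟨w, hw, r, hr, hwr⟩ := Submodule.mem_sup.1 (hstep (t + k) (by omega) hz)
      refine ⟨w, ?_, by rw [← hwr]; simpa [add_assoc] using hr⟩
      rwa [show t - c + k = t + k - c by omega]
    choose w hw hwK using hseq
    let r : ∀ k, S.K (t + k) := fun k =>
      Nat.rec (motive := fun k => S.K (t + k)) ⟨y, hy⟩ (fun k z => ⟨z.1 - w k z.1 z.2, hwK k z.1 z.2⟩) k
    have hrM : ∀ k, y - (r k : S.L) ∈ J ^ (t - c) • M := fun k => by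
      induction k with
      | zero => rw [show (r 0 : S.L) = y from rfl, sub_self]; exact zero_mem _
      | succ k ih =>
        have e : y - (r (k + 1) : S.L) = (y - (r k : S.L)) + w k (r k).1 (r k).2 := by
          show y - ((r k : S.L) - w k (r k).1 (r k).2) = _
          abel
        rw [e]
        exact add_mem ih (Submodule.smul_mono_left (Ideal.pow_le_pow_right (Nat.le_add_right _ k)) (hw k _ _))
    have hdiff : ∀ {m n : ℕ}, m ≤ n → (r m : S.L) - r n ∈ J ^ (t - c + m) • M := fun {m n} h => by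
      induction n, h using Nat.le_induction with
      | base => rw [sub_self]; exact zero_mem _
      | succ n hmn ih =>
        have e : (r m : S.L) - r (n + 1) = ((r m : S.L) - r n) + w n (r n).1 (r n).2 := by
          show _ - ((r n : S.L) - w n (r n).1 (r n).2) = _
          abel
        rw [e]
        exact add_mem ih (Submodule.smul_mono_left (Ideal.pow_le_pow_right (by omega)) (hw n _ _))
    let f : ℕ → M := fun k => ⟨y - (r k : S.L), Submodule.smul_le_right (hrM k)⟩
    have hsub : ∀ {k : ℕ} (z : M), (z : S.L) ∈ J ^ k • M ↔ z ∈ J ^ k • (⊤ : Submodule A M) := fun {k} z =>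
      (Submodule.mem_smul_top_iff (J ^ k) M z).symm
    obtain ⟨L₀, hL₀⟩ := IsPrecomplete.prec (I := J) inferInstance (f := f) fun {m n} hmn => by
      rw [SModEq.sub_mem, ← hsub]
      show (y - (r m : S.L)) - (y - (r n : S.L)) ∈ J ^ m • M
      rw [show (y - (r m : S.L)) - (y - (r n : S.L)) = -((r m : S.L) - r n) by abel]
      exact neg_mem (Submodule.smul_mono_left (Ideal.pow_le_pow_right (Nat.le_add_left m _)) (hdiff hmn))
    have hL : ∀ k, (y - (r k : S.L)) - (L₀ : S.L) ∈ J ^ k • M := fun k => by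
      have := hL₀ k
      rw [SModEq.sub_mem, ← hsub] at this
      exact this
    have hy0 : y = L₀ := Subtype.ext (funext fun i => sub_eq_zero.1 (by
      show S.π i y - S.π i L₀ = 0
      rw [← map_sub]
      have h1 := S.pow_smul_le_K i le_rfl (Submodule.smul_mono le_rfl le_top (hL (i + 1)))
      have h2 := S.K_antitone (show i ≤ t + (i + 1) by omega) (r (i + 1)).2
      have h3 : S.π i ((y - (r (i + 1) : S.L)) - L₀ + r (i + 1)) = 0 := by
        rw [map_add, show S.π i _ = 0 from h1, show S.π i _ = 0 from h2, add_zero]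
      rwa [show (y - (r (i + 1) : S.L)) - (L₀ : S.L) + r (i + 1) = y - L₀ by abel] at h3))
    rw [hy0]
    simpa using sub_mem (hrM (t - c)) (hL (t - c))
  have hMtop : M = ⊤ := top_le_iff.1 fun y _ => by
    obtain ⟨a, ha, b, hb, rfl⟩ := Submodule.mem_sup.1 (htop (Submodule.mem_top (x := y)))
    exact add_mem ha (Submodule.smul_le_right (hclosed c le_rfl b hb))
  refine ⟨Module.Finite.of_fg_top (hMtop ▸ hM), c, fun t ht y hy => ?_⟩
  exact hMtop ▸ hclosed t ht y hy

end GrSec

end

end Groth.Agent.FormGr
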