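import Groth.Agent.W7Exist.IPow
import Groth.Agent.FormAlg.HomFullGen

/-!
Completion is fully faithful on modules killed by a power of the ideal.
-/

set_option autoImplicit false
set_option maxHeartbeats 1000000
set_option linter.style.haveILetI false
set_option backward.isDefEq.respectTransparency false
set_option backward.isDefEq.respectTransparency.types false
universe u

namespace Groth.Agent.FormGr

open CategoryTheory CategoryTheory.Limits AlgebraicGeometry Opposite TopologicalSpace

variable {A : Type u} [CommRing A] {X : Scheme.{u}} [X.Over (Spec (CommRingCat.of A))] (I : Ideal A)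

theorem killedBy_homSh {F G : X.Modules} {K : Ideal A} (h : Formal.KilledBy K F ∨ Formal.KilledBy K G) :
    Formal.KilledBy K (RefHull.homSh F G) := fun a ha => by
  refine Scheme.Modules.hom_ext _ _ fun W => ?_
  ext g
  refine Subtype.ext (funext fun x => LinearMap.ext fun v => ?_)
  show X.presheaf.germ W x.1 x.2 (W7Cech.secRing A W a) • g.1 x v = 0
  rcases h with h | h
  · have hv : X.presheaf.germ W x.1 x.2 (W7Cech.secRing A W a) • v = 0 := by
      obtain ⟨V, hxV, m, rfl⟩ := TopCat.Presheaf.exists_germ_eq F.presheaf v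
      rw [← TopCat.Presheaf.germ_res_apply F.presheaf (homOfLE (inf_le_left : V ⊓ W ≤ V)) x.1 ⟨hxV, x.2⟩ m,
        ← TopCat.Presheaf.germ_res_apply X.presheaf (homOfLE (inf_le_right : V ⊓ W ≤ W)) x.1 ⟨hxV, x.2⟩
          (W7Cech.secRing A W a)]
      have hz : (QC.resO X (inf_le_right : V ⊓ W ≤ W) (W7Cech.secRing A W a)) •
          (QC.res F (inf_le_left : V ⊓ W ≤ V) m) = 0 := by
        rw [W7Cech.resO_secRing (A := A) (inf_le_right : V ⊓ W ≤ W) a]
        exact congr(($(h a ha)).app (V ⊓ W) _)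
      exact ((PresheafOfModules.germ_smul F.val x.1 (V ⊓ W) ⟨hxV, x.2⟩ _ _).symm).trans
        ((congrArg (F.presheaf.germ (V ⊓ W) x.1 ⟨hxV, x.2⟩) hz).trans (map_zero _))
    rw [← LinearMap.map_smul, hv, map_zero]
  · obtain ⟨V, hxV, m, hm⟩ := TopCat.Presheaf.exists_germ_eq G.presheaf (g.1 x v)
    rw [← hm, ← TopCat.Presheaf.germ_res_apply G.presheaf (homOfLE (inf_le_left : V ⊓ W ≤ V)) x.1 ⟨hxV, x.2⟩ m,
      ← TopCat.Presheaf.germ_res_apply X.presheaf (homOfLE (inf_le_right : V ⊓ W ≤ W)) x.1 ⟨hxV, x.2⟩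
        (W7Cech.secRing A W a)]
    have hz : (QC.resO X (inf_le_right : V ⊓ W ≤ W) (W7Cech.secRing A W a)) •
        (QC.res G (inf_le_left : V ⊓ W ≤ V) m) = 0 := by
      rw [W7Cech.resO_secRing (A := A) (inf_le_right : V ⊓ W ≤ W) a]
      exact congr(($(h a ha)).app (V ⊓ W) _)
    exact ((PresheafOfModules.germ_smul G.val x.1 (V ⊓ W) ⟨hxV, x.2⟩ _ _).symm).trans
      ((congrArg (G.presheaf.germ (V ⊓ W) x.1 ⟨hxV, x.2⟩) hz).trans (map_zero _))

theorem bijective_toHHlim_of_killed {H : X.Modules} {c : ℕ} (h : Formal.KilledBy (I ^ c) H) :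
    Function.Bijective (Formal.toHHlim I H 0) := by
  have hiso : ∀ n, c ≤ n → Function.Bijective (Sheaf.H.map ((SheafOfModules.toSheaf _).map (Formal.modPowπ I (n + 1) H)) 0) :=
    fun n hn => by
    haveI := W7Exist.isIso_π h (hn.trans n.le_succ)
    exact (CohFinite.hhEquiv A (asIso (Formal.modPowπ I (n + 1) H)) 0).bijective
  refine ⟨fun x y hxy => (hiso c le_rfl).1 (congrFun (congrArg Subtype.val hxy) c), fun Y => ?_⟩
  obtain ⟨x, hx⟩ := (hiso c le_rfl).2 (Y.1 c)
  have hup : ∀ n, c ≤ n → Formal.toHHmodPow I H 0 n x = Y.1 n := fun n hn => by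
    induction n, hn using Nat.le_induction with
    | base => exact hx
    | succ n hn ih =>
      obtain ⟨z, hz⟩ := (hiso (n + 1) (hn.trans n.le_succ)).2 (Y.1 (n + 1))
      have h1 : Formal.HHmodPowTrans I H 0 n (Formal.toHHmodPow I H 0 (n + 1) z) = Formal.toHHmodPow I H 0 n z :=
        (Formal.toHHlim I H 0 z).2 n
      have hz' : Formal.toHHmodPow I H 0 n z = Y.1 n :=
        h1.symm.trans ((congrArg (Formal.HHmodPowTrans I H 0 n) hz).trans (Y.2 n))
      obtain rfl : z = x := (hiso n hn).1 (hz'.trans ih.symm)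
      exact hz
  refine ⟨x, Subtype.ext (funext fun n => ?_)⟩
  have hdown : ∀ N n, n ≤ N → Formal.toHHmodPow I H 0 N x = Y.1 N → Formal.toHHmodPow I H 0 n x = Y.1 n := by
    intro N
    induction N with
    | zero => intro n hn h0; obtain rfl := Nat.le_zero.1 hn; exact h0
    | succ N ih =>
      intro n hn hN
      rcases Nat.lt_or_eq_of_le hn with h | h
      · exact ih n (by omega) (((Formal.toHHlim I H 0 x).2 N).symm.trans
          ((congrArg (Formal.HHmodPowTrans I H 0 N) hN).trans (Y.2 N)))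
      · subst h; exact hN
  exact hdown (n + c) n (Nat.le_add_right n c) (hup (n + c) (Nat.le_add_left c n))

theorem completion_full_of_killed [IsNoetherian X] {F G : X.Modules} (hF : Coh.IsCoh F) (hG : Coh.IsCoh G)
    {c : ℕ} (hc : Formal.KilledBy (I ^ c) F ∨ Formal.KilledBy (I ^ c) G)
    (ψ : Formal.completion I F ⟶ Formal.completion I G) :
    ∃! φ : F ⟶ G, ∀ n : ℕ, Formal.modPowπ I (n + 1) F ≫ ψ.app (op n) = φ ≫ Formal.modPowπ I (n + 1) G :=
  FormAlg.completion_full' I hF hG (bijective_toHHlim_of_killed I (killedBy_homSh hc)) ψ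

end Groth.Agent.FormGr
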